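import Cfsg.Agent.Lib.MonsterType.FiveCentral.Bound

/-!
# The action of the centraliser on the ten subspaces
-/

set_option autoImplicit false
set_option maxRecDepth 100000

namespace CfsgLib.MonsterType.FiveCentral

open Cfsg CfsgLib.Golay CfsgLib.Leech CfsgLib.Leech.CoTwo
open scoped Pointwise

/-- The ten labels. -/
abbrev Lab : Type := Fin 5 ⊕ Fin 5

/-- The number of a label. -/
def labNum : Lab → ℕ := Sum.elim (fun i => i.val) fun i => 5 + i.val

/-- The label of a number. -/
def numLab (n : ℕ) : Lab :=
  if n < 5 then Sum.inl (Fin.ofNat 5 n) else Sum.inr (Fin.ofNat 5 (n - 5))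

theorem labNum_lt : ∀ x, labNum x < 10 := by decide

theorem labNum_numLab : ∀ n < 10, labNum (numLab n) = n := by decide

theorem numLab_labNum : ∀ x, numLab (labNum x) = x := by decide

/-- The subspace with a given label, as a union of classes. -/
def space (x : Lab) : Set leechLattice :=
  {v | ∃ c ∈ spanList (spaceBases.getD (labNum x) []), v - clV c ∈ twoMul leechLattice}

theorem span_lt {i : ℕ} (hi : i < 10) : ∀ c ∈ spanList (spaceBases.getD i []), c < 256 := by
  have h := spaces_ok
  simp only [List.all_eq_true, List.mem_range, Bool.and_eq_true, decide_eq_true_eq] at h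
  exact (h i hi).1.2

theorem clV_zero : clV 0 = 0 := by simp [clV]

theorem space_injective : Function.Injective space := by
  intro x y hxy
  by_contra hne
  have h := spaces_ok
  simp only [List.all_eq_true, List.mem_range, Bool.and_eq_true, Bool.or_eq_true, Bool.not_eq_true',
    decide_eq_true_eq, List.all_eq_false, List.contains_iff_mem] at h
  rcases (h _ (labNum_lt x)).2 _ (labNum_lt y) with h' | ⟨c, hc, hcy⟩
  · exact hne (by rw [← numLab_labNum x, h', numLab_labNum])
  · refine hcy ?_
    have hcl : clV c ∈ space x := ⟨c, mem_spanList_self hc, by rw [sub_self]; exact zero_mem _⟩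
    rw [hxy] at hcl
    obtain ⟨d, hd, hcd⟩ := hcl
    rwa [clV_inj (span_lt (labNum_lt x) _ (mem_spanList_self hc)) (span_lt (labNum_lt y) _ hd) hcd]

theorem smul_space_subset {g : Co0} {f : List ℤ → List ℤ} {per : List ℕ} {imgs : List (List ℕ)}
    (hf : ∀ l, leechTest l = true → leechTest (f l) = true → g • lv l = lv (f l))
    (h : spaceTest f per imgs = true) (x : Lab) :
    g • space x ⊆ space (numLab (per.getD (labNum x) 0)) := by
  simp only [spaceTest, List.all_eq_true, List.mem_range, Bool.and_eq_true, decide_eq_true_eq,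
    List.contains_iff_mem] at h
  obtain ⟨hper, hb⟩ := h _ (labNum_lt x)
  set y := numLab (per.getD (labNum x) 0) with hy
  have hny : labNum y = per.getD (labNum x) 0 := labNum_numLab _ hper
  have hlen : (spaceBases.getD (labNum x) []).length = 4 := by
    have h := spaces_ok
    simp only [List.all_eq_true, List.mem_range, Bool.and_eq_true, beq_iff_eq] at h
    exact (h _ (labNum_lt x)).1.1
  have key : ∀ n ∈ spanList (spaceBases.getD (labNum x) []),
      ∃ d ∈ spanList (spaceBases.getD (labNum y) []), g • clV n - clV d ∈ twoMul leechLattice := by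
    refine spanList_induction (P := fun n => ∃ d ∈ spanList (spaceBases.getD (labNum y) []),
      g • clV n - clV d ∈ twoMul leechLattice) ⟨0, zero_mem_spanList _, ?_⟩ ?_
    · rw [clV_zero, ← actHom_apply, map_zero, sub_self]; exact zero_mem _
    · rintro b hbm n ⟨d, hd, hn⟩
      obtain ⟨k, hk, rfl⟩ := List.getElem_of_mem hbm
      obtain ⟨⟨⟨⟨hc, he⟩, hspan⟩, hlt⟩, hhalf⟩ := hb k (hlen ▸ hk)
      rw [List.getD_eq_getElem _ _ hk] at hc hlt hhalf
      rw [← hny] at hspan
      refine ⟨_, xor_mem_spanList hspan hd, ?_⟩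
      have h1 := half_congr hlt (rep_test he).2.1 hhalf
      rw [← hf _ (rep_test hc).2.1 hlt, lv_clL hc, lv_clL he] at h1
      have h2 := smul_mem_twoMul g (clV_xor ((spaceBases.getD (labNum x) [])[k]) n)
      rw [smul_sub', smul_add'] at h2
      have h3 := add_mem (sub_mem (add_mem h1 hn) h2)
        (clV_xor ((imgs.getD (labNum x) []).getD k 0) d)
      convert h3 using 1
      abel
  rintro _ ⟨v, ⟨c, hc, hv⟩, rfl⟩
  obtain ⟨d, hd, hcd⟩ := key c hc
  refine ⟨d, hd, ?_⟩
  have h1 := smul_mem_twoMul g hv
  rw [smul_sub'] at h1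
  have := add_mem h1 hcd
  rwa [sub_add_sub_cancel] at this

theorem smul_space_eq {g g' : Co0} (hgg : g * g' = 1) {x y : Lab} (h : g • space x ⊆ space y)
    (h' : g' • space y ⊆ space x) : g • space x = space y :=
  Set.Subset.antisymm h fun v hv => ⟨g' • v, h' ⟨v, hv, rfl⟩, by
    simp only [← mul_smul, hgg, one_smul]⟩

/-- The first generator. -/
def genG : Co0 := matAut matA matA matA_ok matA_ok * matAut matB matBT matB_ok matBT_ok

/-- Its inverse. -/
def genG' : Co0 := matAut matBT matB matBT_ok matB_ok * matAut matA matA matA_ok matA_ok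

/-- The second generator. -/
def genX : Co0 := matAut matX matX matX_ok matX_ok

theorem matAut_mul_self {M N : List (List (ℕ × ℤ))} (h : matCheck M N = true) (h' : matCheck N M = true) :
    matAut M N h h' * matAut N M h' h = 1 :=
  co_ext fun v => Subtype.ext (by
    rw [mul_smul, coe_matAut_smul, coe_matAut_smul, one_smul]
    exact applyMat_left_inv h' h v.2)

theorem genG_mul : genG * genG' = 1 := by
  rw [genG, genG', mul_assoc, ← mul_assoc (matAut matB matBT matB_ok matBT_ok), matAut_mul_self, one_mul,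
    matAut_mul_self]

theorem genX_mul : genX * genX = 1 := matAut_mul_self _ _

theorem matAut_lv {M N : List (List (ℕ × ℤ))} (h : matCheck M N = true) (h' : matCheck N M = true)
    {l : List ℤ} (hl : leechTest l = true) :
    ((matAut M N h h' • lv l : leechLattice) : GolayPt → ℤ) = toVec (imgList M l) := by
  rw [coe_matAut_smul, coe_lv hl, applyMat_toVec]

theorem genG_lv {l : List ℤ} (hl : leechTest l = true) :
    ((genG • lv l : leechLattice) : GolayPt → ℤ) = toVec (imgList matA (imgList matB l)) := by
  rw [genG, mul_smul, coe_matAut_smul, matAut_lv _ _ hl, applyMat_toVec]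

theorem genG'_lv {l : List ℤ} (hl : leechTest l = true) :
    ((genG' • lv l : leechLattice) : GolayPt → ℤ) = toVec (imgList matBT (imgList matA l)) := by
  rw [genG', mul_smul, coe_matAut_smul, matAut_lv _ _ hl, applyMat_toVec]

/-- The first generator on the labels. -/
def permG : Equiv.Perm Lab where
  toFun x := numLab (gPerm.getD (labNum x) 0)
  invFun x := numLab (gInvPerm.getD (labNum x) 0)
  left_inv := by decide +kernel
  right_inv := by decide +kernel

theorem genG_space (x : Lab) : genG • space x = space (permG x) := by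
  refine smul_space_eq genG_mul (smul_space_subset (fun l hl hl' => Subtype.ext ?_) g_space_ok x) ?_
  · rw [genG_lv hl, coe_lv hl']
  · have := smul_space_subset (g := genG') (fun l hl hl' => Subtype.ext (by rw [genG'_lv hl, coe_lv hl']))
      gInv_space_ok (permG x)
    rwa [show numLab (gInvPerm.getD (labNum (permG x)) 0) = x from permG.left_inv x] at this

theorem genX_space (x : Lab) : genX • space x = space (Equiv.sumComm (Fin 5) (Fin 5) x) := by
  have hx : ∀ y : Lab, numLab (xPerm.getD (labNum y) 0) = Equiv.sumComm (Fin 5) (Fin 5) y := by decide +kernel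
  have h : ∀ y, genX • space y ⊆ space (Equiv.sumComm (Fin 5) (Fin 5) y) := fun y =>
    hx y ▸ smul_space_subset (fun l hl hl' => Subtype.ext (by rw [genX, matAut_lv _ _ hl, coe_lv hl']))
      x_space_ok y
  refine smul_space_eq genX_mul (h x) ?_
  have := h (Equiv.sumComm (Fin 5) (Fin 5) x)
  rwa [show Equiv.sumComm (Fin 5) (Fin 5) (Equiv.sumComm (Fin 5) (Fin 5) x) = x by cases x <;> rfl] at this

theorem comm_of_gens {g : Co0}
    (h : ∀ l ∈ genList, g • gFive • lv l = gFive • g • lv l) : g * gFive = gFive * g := by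
  refine co_ext fun v => ?_
  rw [mul_smul, mul_smul]
  have key : ∀ x ∈ leechLattice, ∃ hx : x ∈ leechLattice,
      g • gFive • (⟨x, hx⟩ : leechLattice) = gFive • g • ⟨x, hx⟩ := by
    intro x hx
    refine lat_induction (P := fun x => ∃ hx : x ∈ leechLattice,
      g • gFive • (⟨x, hx⟩ : leechLattice) = gFive • g • ⟨x, hx⟩) ?_ ?_ ?_ ?_ hx
    · refine ⟨zero_mem _, ?_⟩
      show g • gFive • (0 : leechLattice) = gFive • g • 0
      simp only [← actHom_apply, map_zero]
    · rintro a b ⟨ha, h1⟩ ⟨hb, h2⟩
      refine ⟨add_mem ha hb, ?_⟩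
      show g • gFive • ((⟨a, ha⟩ : leechLattice) + ⟨b, hb⟩) = gFive • g • (⟨a, ha⟩ + ⟨b, hb⟩)
      simp only [smul_add', h1, h2]
    · rintro a ⟨ha, h1⟩
      refine ⟨neg_mem ha, ?_⟩
      show g • gFive • (-(⟨a, ha⟩ : leechLattice)) = gFive • g • (-⟨a, ha⟩)
      simp only [smul_neg', h1]
    · intro l hl
      have hg := genList_ok
      simp only [List.all_eq_true] at hg
      refine ⟨mem_of_leechTest (hg l hl), ?_⟩
      have e : (⟨toVec l, mem_of_leechTest (hg l hl)⟩ : leechLattice) = lv l := by
        rw [lv, dif_pos (hg l hl)]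
      rw [e]; exact h l hl
  exact (key v v.2).2

theorem genG_comm : genG * gFive = gFive * genG := by
  refine comm_of_gens fun l hl => Subtype.ext ?_
  have hg := genList_ok
  have hc := gen_comm_ok
  simp only [List.all_eq_true, beq_iff_eq] at hg hc
  rw [coe_gFive_smul (genG • lv l), genG_lv (hg l hl), genG, mul_smul, coe_matAut_smul, coe_matAut_smul,
    gFive_lv (hg l hl), applyMat_toVec, applyMat_toVec, hc l hl, toVec_permL]

theorem genX_comm : genX * gFive = gFive * genX := by
  refine comm_of_gens fun l hl => Subtype.ext ?_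
  have hg := genList_ok
  have hc := x_comm_ok
  simp only [List.all_eq_true, beq_iff_eq] at hg hc
  rw [coe_gFive_smul (genX • lv l), genX, matAut_lv _ _ (hg l hl), coe_matAut_smul,
    gFive_lv (hg l hl), applyMat_toVec, hc l hl, toVec_permL]

/-- An element fixing all fixed classes fixes the ten subspaces. -/
theorem smul_space_of_fixed {k : Co0} (h : ∀ c, k • clV c - clV c ∈ twoMul leechLattice) (x : Lab) :
    k • space x = space x := by
  have h' : ∀ c, k⁻¹ • clV c - clV c ∈ twoMul leechLattice := fun c => by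
    have := neg_mem (smul_mem_twoMul k⁻¹ (h c))
    rwa [smul_sub', inv_smul_smul, neg_sub] at this
  have key : ∀ k : Co0, (∀ c, k • clV c - clV c ∈ twoMul leechLattice) → k • space x ⊆ space x := by
    rintro k hk _ ⟨v, ⟨c, hc, hv⟩, rfl⟩
    refine ⟨c, hc, ?_⟩
    have h1 := smul_mem_twoMul k hv
    rw [smul_sub'] at h1
    have := add_mem h1 (hk c)
    rwa [sub_add_sub_cancel] at this
  exact smul_space_eq (mul_inv_cancel k) (key k h) (key _ h')

/-- The centraliser of the automorphism of order five. -/
abbrev cent : Subgroup Co0 := Subgroup.centralizer ({gFive} : Set Co0)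

/-- The elements of the centraliser permuting the ten subspaces. -/
def permSub : Subgroup cent where
  carrier := {k | ∀ x, ∃ y, (k : Co0) • space x = space y}
  one_mem' := fun x => ⟨x, by rw [OneMemClass.coe_one, one_smul]⟩
  mul_mem' := by
    intro a b ha hb x
    obtain ⟨y, hy⟩ := hb x
    obtain ⟨w, hw⟩ := ha y
    exact ⟨w, by rw [Subgroup.coe_mul, mul_smul, hy, hw]⟩
  inv_mem' := by
    intro a ha x
    choose f hf using ha
    have hinj : Function.Injective f := fun p q h => space_injective (by
      have := (hf p).trans ((congrArg space h).trans (hf q).symm)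
      exact MulAction.injective (a : Co0) this)
    obtain ⟨y, hy⟩ := Finite.surjective_of_injective hinj x
    exact ⟨y, by rw [← hy, ← hf y, InvMemClass.coe_inv, inv_smul_smul]⟩

/-- The permutation of the labels. -/
noncomputable def labMap (k : permSub) (x : Lab) : Lab := (k.2 x).choose

theorem labMap_spec (k : permSub) (x : Lab) : ((k : cent) : Co0) • space x = space (labMap k x) :=
  (k.2 x).choose_spec

theorem labMap_eq {k : permSub} {x y : Lab} (h : ((k : cent) : Co0) • space x = space y) : labMap k x = y :=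
  space_injective ((labMap_spec k x).symm.trans h)

/-- The action on the labels. -/
noncomputable def labHom : permSub →* Equiv.Perm Lab :=
  MonoidHom.mk' (fun k => Equiv.ofBijective (labMap k) (Finite.injective_iff_bijective.1 fun p q h =>
    space_injective (MulAction.injective ((k : cent) : Co0)
      ((labMap_spec k p).trans ((congrArg space h).trans (labMap_spec k q).symm))))) fun a b =>
    Equiv.ext fun x => labMap_eq (by
      rw [Subgroup.coe_mul, Subgroup.coe_mul, mul_smul, labMap_spec, labMap_spec]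
      rfl)

theorem genG_mem : genG ∈ cent := Subgroup.mem_centralizer_singleton_iff.2 genG_comm

theorem genX_mem : genX ∈ cent := Subgroup.mem_centralizer_singleton_iff.2 genX_comm

theorem mem_range_of {k : Co0} (hk : k ∈ cent) {σ : Equiv.Perm Lab} (h : ∀ x, k • space x = space (σ x)) :
    σ ∈ labHom.range :=
  ⟨⟨⟨k, hk⟩, fun x => ⟨σ x, h x⟩⟩, Equiv.ext fun x => labMap_eq (h x)⟩

/-- A word in two permutations. -/
def wordProd {β : Type*} [Mul β] [One β] (a b : β) (w : List ℕ) : β :=
  (w.map fun i => if i = 0 then a else b).prod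

theorem wordProd_mem {β : Type*} [Group β] {H : Subgroup β} {a b : β} (ha : a ∈ H) (hb : b ∈ H)
    (w : List ℕ) : wordProd a b w ∈ H := by
  refine Subgroup.list_prod_mem _ fun y hy => ?_
  obtain ⟨i, -, rfl⟩ := List.mem_map.1 hy
  split <;> assumption

/-- A three-cycle of five points. -/
def cycThree : Equiv.Perm (Fin 5) :=
  ⟨![1, 2, 0, 3, 4], ![2, 0, 1, 3, 4], by decide, by decide⟩

/-- A five-cycle of five points. -/
def cycFive : Equiv.Perm (Fin 5) :=
  ⟨![1, 2, 3, 4, 0], ![4, 0, 1, 2, 3], by decide, by decide⟩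

theorem fiveWords_cover : ∀ σ : Equiv.Perm (Fin 5), Equiv.Perm.sign σ = 1 →
    ∃ w ∈ fiveWords, wordProd cycThree cycFive w = σ := by decide +kernel

theorem wordA_ok :
    wordProd permG (Equiv.sumComm (Fin 5) (Fin 5)) wordA = Equiv.Perm.sumCongr cycThree 1 := by
  decide +kernel

theorem wordB_ok :
    wordProd permG (Equiv.sumComm (Fin 5) (Fin 5)) wordB = Equiv.Perm.sumCongr cycFive 1 := by
  decide +kernel

theorem wreath_le_range : alternatingFiveWreathTwo ≤ labHom.range := by
  have hg := mem_range_of genG_mem genG_space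
  have hx := mem_range_of genX_mem genX_space
  have hl : ∀ σ : alternatingGroup (Fin 5),
      Equiv.Perm.sumCongr (σ : Equiv.Perm (Fin 5)) (1 : Equiv.Perm (Fin 5)) ∈ labHom.range := by
    intro σ
    obtain ⟨w, -, hw⟩ := fiveWords_cover σ (Equiv.Perm.mem_alternatingGroup.1 σ.2)
    have h : Equiv.Perm.sumCongrHom (Fin 5) (Fin 5) ((σ : Equiv.Perm (Fin 5)), 1) ∈ labHom.range := by
      have ha : Equiv.Perm.sumCongrHom (Fin 5) (Fin 5) (cycThree, 1) ∈ labHom.range := by
        rw [Equiv.Perm.sumCongrHom_apply, ← wordA_ok]; exact wordProd_mem hg hx _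
      have hb : Equiv.Perm.sumCongrHom (Fin 5) (Fin 5) (cycFive, 1) ∈ labHom.range := by
        rw [Equiv.Perm.sumCongrHom_apply, ← wordB_ok]; exact wordProd_mem hg hx _
      let ι : Equiv.Perm (Fin 5) →* Equiv.Perm Lab :=
        (Equiv.Perm.sumCongrHom (Fin 5) (Fin 5)).comp (MonoidHom.inl _ _)
      show ι (σ : Equiv.Perm (Fin 5)) ∈ labHom.range
      rw [← hw, show ι (wordProd cycThree cycFive w) = wordProd (ι cycThree) (ι cycFive) w by
        rw [wordProd, wordProd, map_list_prod, List.map_map]
        refine congrArg List.prod (List.map_congr_left fun i _ => ?_)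
        simp only [Function.comp_apply]; split <;> rfl]
      exact wordProd_mem ha hb w
    exact h
  rw [alternatingFiveWreathTwo, Subgroup.closure_le]
  rintro _ (⟨σ, τ, rfl⟩ | rfl)
  · have e : Equiv.Perm.sumCongr (σ : Equiv.Perm (Fin 5)) (τ : Equiv.Perm (Fin 5)) =
        Equiv.Perm.sumCongr (σ : Equiv.Perm (Fin 5)) 1 * (Equiv.sumComm (Fin 5) (Fin 5) *
          Equiv.Perm.sumCongr (τ : Equiv.Perm (Fin 5)) 1 * Equiv.sumComm (Fin 5) (Fin 5)) := by
      refine Equiv.ext fun x => ?_
      cases x <;> rfl
    rw [e]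
    exact mul_mem (hl σ) (mul_mem (mul_mem hx (hl τ)) hx)
  · exact hx

/-- The base of the wreath product. -/
def baseHom : alternatingGroup (Fin 5) × alternatingGroup (Fin 5) →* alternatingFiveWreathTwo :=
  ((Equiv.Perm.sumCongrHom (Fin 5) (Fin 5)).comp
    ((alternatingGroup (Fin 5)).subtype.prodMap (alternatingGroup (Fin 5)).subtype)).codRestrict _
    fun a => Subgroup.subset_closure (Or.inl ⟨a.1, a.2, rfl⟩)

theorem coe_baseHom (a : alternatingGroup (Fin 5) × alternatingGroup (Fin 5)) :
    (baseHom a : Equiv.Perm Lab) = Equiv.Perm.sumCongr (a.1 : Equiv.Perm (Fin 5)) (a.2 : Equiv.Perm (Fin 5)) :=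
  rfl

theorem baseHom_injective : Function.Injective baseHom := fun a b h => by
  have h' := Equiv.Perm.sumCongrHom_injective (congrArg Subtype.val h)
  exact Prod.ext (Subtype.ext (congrArg Prod.fst h')) (Subtype.ext (congrArg Prod.snd h'))

theorem card_alt_five : Nat.card (alternatingGroup (Fin 5)) = 60 := by
  rw [nat_card_alternatingGroup]; simp [Nat.factorial]

theorem card_wreath_ge : 7200 ≤ Nat.card alternatingFiveWreathTwo := by
  have hb : Nat.card baseHom.range = 3600 := by
    rw [Nat.card_congr (MonoidHom.ofInjective baseHom_injective).symm.toEquiv, Nat.card_prod, card_alt_five]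
  have hd := Subgroup.card_subgroup_dvd_card baseHom.range
  rw [hb] at hd
  obtain ⟨m, hm⟩ := hd
  have hne : baseHom.range ≠ ⊤ := by
    intro h
    obtain ⟨a, ha⟩ := h ▸ Subgroup.mem_top
      (⟨Equiv.sumComm (Fin 5) (Fin 5), Subgroup.subset_closure (Or.inr rfl)⟩ : alternatingFiveWreathTwo)
    have := congrArg (fun p : alternatingFiveWreathTwo => (p : Equiv.Perm Lab) (Sum.inl 0)) ha
    simp [coe_baseHom] at this
  have hlt : 3600 < Nat.card alternatingFiveWreathTwo := by
    refine hb ▸ lt_of_le_of_ne (Subgroup.card_le_card_group _) fun e => hne ?_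
    exact Subgroup.eq_top_of_card_eq _ e
  rcases Nat.lt_or_ge m 2 with h | h
  · interval_cases m <;> omega
  · omega

/-- The negative of the automorphism of order five. -/
noncomputable def nuAut : Co0 := negAut * gFive

theorem negAut_ne_one : negAut ≠ 1 := fun h => by
  have h1 := congrArg (fun g : Co0 => ((g • baseVec : leechLattice) : GolayPt → ℤ) none) h
  simp [baseVec, coe_axisVec, negAut_smul] at h1

theorem gFive_ne_one : gFive ≠ 1 := fun h => by
  have h1 := congrArg (fun g : Co0 => ((g • axisVec (pt 2) 8 dvd_rfl : leechLattice) : GolayPt → ℤ)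
    ((piPerm : Equiv.Perm GolayPt) (pt 2))) h
  simp only [coe_gFive_smul, one_smul, coe_axisVec, coe_piPerm, Equiv.symm_apply_apply, Pi.single_eq_same] at h1
  rw [Pi.single_eq_of_ne] at h1
  · norm_num at h1
  · rw [← coe_piPerm, piPerm_pt (by norm_num), show piL.getD 2 0 = 16 by decide +kernel]
    intro e
    have := congrArg (fun p => (ptEquiv p).val) e
    simp only [ptEquiv_pt (show 16 < 24 by norm_num), ptEquiv_pt (show 2 < 24 by norm_num)] at this
    omega

theorem orderOf_gFive : orderOf gFive = 5 := by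
  have : Fact (Nat.Prime 5) := ⟨by norm_num⟩
  exact orderOf_eq_prime gFive_pow_five gFive_ne_one

theorem negAut_comm (g : Co0) : Commute negAut g :=
  (Subgroup.mem_center_iff.1 negAut_mem_center g).symm

theorem orderOf_nuAut : orderOf nuAut = 10 := by
  have : Fact (Nat.Prime 2) := ⟨Nat.prime_two⟩
  have h2 : orderOf negAut = 2 := orderOf_eq_prime (by
    rw [sq]
    exact co_ext fun v => by rw [mul_smul, negAut_smul, negAut_smul, neg_neg, one_smul]) negAut_ne_one
  rw [nuAut, (negAut_comm gFive).orderOf_mul_eq_mul_orderOf_of_coprime (by rw [h2, orderOf_gFive]; norm_num),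
    h2, orderOf_gFive]

theorem nuAut_fixed (c : ℕ) : nuAut • clV c - clV c ∈ twoMul leechLattice := by
  rw [nuAut, mul_smul, clV_fixed, negAut_smul]
  have := neg_mem (two_smul_mem (clV c))
  rwa [neg_add, ← sub_eq_add_neg] at this

theorem nuAut_mem : nuAut ∈ cent :=
  mul_mem (Subgroup.mem_centralizer_singleton_iff.2 (negAut_comm gFive).eq)
    (Subgroup.mem_centralizer_singleton_iff.2 rfl)

/-- The conclusion of the count. -/
theorem count_done : permSub = ⊤ ∧ labHom.range = alternatingFiveWreathTwo ∧
    ∀ k : permSub, labHom k = 1 → ((k : cent) : Co0) ∈ Subgroup.zpowers nuAut := by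
  have : Finite Co0 := Nat.finite_of_card_ne_zero (by rw [card_co0]; norm_num)
  let νP : permSub := ⟨⟨nuAut, nuAut_mem⟩, fun x => ⟨x, smul_space_of_fixed nuAut_fixed x⟩⟩
  have hν1 : labHom νP = 1 := Equiv.ext fun x => labMap_eq (smul_space_of_fixed nuAut_fixed x)
  let j : permSub →* Co0 := cent.subtype.comp permSub.subtype
  have hj : Function.Injective j := (Subgroup.subtype_injective _).comp (Subgroup.subtype_injective _)
  have hordν : orderOf νP = 10 := by
    rw [← orderOf_injective j hj]; exact orderOf_nuAut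
  have hle : Subgroup.zpowers νP ≤ labHom.ker := Subgroup.zpowers_le.2 hν1
  have hk : 10 ≤ Nat.card labHom.ker := by
    have := Subgroup.card_le_of_le hle
    rwa [Nat.card_zpowers, hordν] at this
  have hr : 7200 ≤ Nat.card labHom.range := card_wreath_ge.trans (Subgroup.card_le_of_le wreath_le_range)
  have hC : Nat.card cent ≤ 72000 := card_centralizer_le
  have hle2 : Nat.card permSub ≤ Nat.card cent := Subgroup.card_le_card_group _
  have hmul := labHom.ker.card_mul_index
  rw [Subgroup.index_ker] at hmul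
  have hrle : Nat.card labHom.range ≤ 7200 := by nlinarith
  have hkle : Nat.card labHom.ker ≤ 10 := by nlinarith
  have hCeq : Nat.card permSub = Nat.card cent := by nlinarith
  refine ⟨Subgroup.eq_top_of_card_eq _ hCeq,
    (Subgroup.eq_of_le_of_card_ge wreath_le_range (hrle.trans card_wreath_ge)).symm, fun k hk1 => ?_⟩
  have heq : Subgroup.zpowers νP = labHom.ker :=
    Subgroup.eq_of_le_of_card_ge hle (by rw [Nat.card_zpowers, hordν]; exact hkle)
  have hkz : k ∈ Subgroup.zpowers νP := by rw [heq]; exact MonoidHom.mem_ker.2 hk1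
  obtain ⟨n, hn⟩ := Subgroup.mem_zpowers_iff.1 hkz
  exact Subgroup.mem_zpowers_iff.2 ⟨n, by rw [← hn]; exact (map_zpow j νP n).symm⟩

/-- The map of the centraliser onto the wreath product. -/
noncomputable def centHom : cent →* alternatingFiveWreathTwo :=
  (labHom.codRestrict alternatingFiveWreathTwo fun k => by rw [← count_done.2.1]; exact ⟨k, rfl⟩).comp
    ((MonoidHom.id cent).codRestrict permSub fun k => by rw [count_done.1]; exact Subgroup.mem_top k)

theorem centHom_surjective : Function.Surjective centHom := by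
  rintro ⟨σ, hσ⟩
  have h : σ ∈ labHom.range := by rw [count_done.2.1]; exact hσ
  obtain ⟨k, rfl⟩ := h
  exact ⟨k, rfl⟩

theorem nu_le : Subgroup.zpowers nuAut ≤ Subgroup.zpowers gFive ⊔ Subgroup.center Co0 :=
  Subgroup.zpowers_le.2 (mul_mem (le_sup_right (a := Subgroup.zpowers gFive) negAut_mem_center)
    (le_sup_left (b := Subgroup.center Co0) (Subgroup.mem_zpowers _)))

theorem centHom_of_fixed {h : cent} (hf : ∀ c, (h : Co0) • clV c - clV c ∈ twoMul leechLattice) :
    centHom h = 1 :=
  Subtype.ext (Equiv.ext fun x => labMap_eq (smul_space_of_fixed hf x))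

theorem centHom_eq_one_iff (h : cent) :
    centHom h = 1 ↔ (h : Co0) ∈ Subgroup.zpowers gFive ⊔ Subgroup.center Co0 := by
  constructor
  · intro h1
    exact nu_le (count_done.2.2 _ (congrArg Subtype.val h1))
  · intro hm
    let fix : Subgroup Co0 :=
      { carrier := {k | ∀ c, k • clV c - clV c ∈ twoMul leechLattice}
        one_mem' := fun c => by rw [one_smul, sub_self]; exact zero_mem _
        mul_mem' := fun {a b} ha hb c => by
          have h1 := smul_mem_twoMul a (hb c)
          rw [smul_sub'] at h1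
          have := add_mem h1 (ha c)
          rwa [sub_add_sub_cancel, ← mul_smul] at this
        inv_mem' := fun {a} ha c => by
          have := neg_mem (smul_mem_twoMul a⁻¹ (ha c))
          rwa [smul_sub', inv_smul_smul, neg_sub] at this }
    refine centHom_of_fixed ((sup_le ?_ ?_ : _ ≤ fix) hm)
    · exact Subgroup.zpowers_le.2 fun c => by rw [clV_fixed, sub_self]; exact zero_mem _
    · intro g hg c
      rcases center_co0_cases hg with rfl | rfl
      · rw [one_smul, sub_self]; exact zero_mem _
      · rw [negAut_smul]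
        have := neg_mem (two_smul_mem (clV c))
        rwa [neg_add, ← sub_eq_add_neg] at this

/-- An element fixing the basis modulo two lies in the kernel. -/
theorem faithful {h : cent} (hf : ∀ k, (h : Co0) • basisV k - basisV k ∈ twoMul leechLattice) :
    (h : Co0) ∈ Subgroup.zpowers gFive ⊔ Subgroup.center Co0 := by
  refine (centHom_eq_one_iff h).1 (centHom_of_fixed fun c => ?_)
  rw [clV, ← actHom_apply, map_sum, ← Finset.sum_sub_distrib]
  refine sum_mem fun k _ => ?_
  split
  · exact hf k
  · rw [map_zero, sub_self]; exact zero_mem _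

/-- The wreath product has no normal 2-subgroup but the trivial one. -/
theorem pCore_wreath : pCore 2 alternatingFiveWreathTwo = ⊥ := by
  have : Fact (Nat.Prime 2) := ⟨Nat.prime_two⟩
  have hsimple : IsSimpleGroup (alternatingGroup (Fin 5)) := alternatingGroup.isSimpleGroup_five
  set N := pCore 2 alternatingFiveWreathTwo with hN
  have hN2 : IsPGroup 2 N := CfsgLib.Cores.isPGroup_pCore 2
  set M := N.comap baseHom
  have hM2 : IsPGroup 2 M := hN2.comap_of_injective baseHom baseHom_injective
  have hproj : ∀ (f : alternatingGroup (Fin 5) × alternatingGroup (Fin 5) →* alternatingGroup (Fin 5)),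
      Function.Surjective f → M.map f = ⊥ := by
    intro f hf
    have hn : (M.map f).Normal := (inferInstance : M.Normal).map f hf
    rcases hsimple.eq_bot_or_eq_top_of_normal _ hn with h | h
    · exact h
    · exfalso
      obtain ⟨k, hk⟩ := IsPGroup.iff_card.1 (hM2.map f)
      rw [h, Subgroup.card_top, card_alt_five] at hk
      exact absurd (Nat.prime_three.dvd_of_dvd_pow (hk ▸ (by norm_num) : 3 ∣ 2 ^ k)) (by norm_num)
  have hMbot : M = ⊥ := by
    rw [Subgroup.eq_bot_iff_forall]
    intro a ha
    have h1 : (MonoidHom.fst _ _) a ∈ M.map (MonoidHom.fst _ _) := ⟨a, ha, rfl⟩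
    have h2 : (MonoidHom.snd _ _) a ∈ M.map (MonoidHom.snd _ _) := ⟨a, ha, rfl⟩
    rw [hproj _ Prod.fst_surjective, Subgroup.mem_bot] at h1
    rw [hproj _ Prod.snd_surjective, Subgroup.mem_bot] at h2
    exact Prod.ext h1 h2
  rw [Subgroup.eq_bot_iff_forall]
  intro n hn
  have hbase : ∀ a, (n : alternatingFiveWreathTwo) * baseHom a = baseHom a * n := by
    intro a
    have hh : ∀ b : alternatingFiveWreathTwo, b ∈ baseHom.range → n * b * n⁻¹ ∈ baseHom.range := by
      let B : Subgroup (Equiv.Perm Lab) := baseHom.range.map alternatingFiveWreathTwo.subtype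
      have hswap : ∀ y ∈ B, (Equiv.sumComm (Fin 5) (Fin 5) : Equiv.Perm Lab) * y *
          (Equiv.sumComm (Fin 5) (Fin 5) : Equiv.Perm Lab)⁻¹ ∈ B := by
        rintro _ ⟨_, ⟨⟨σ, τ⟩, rfl⟩, rfl⟩
        exact ⟨_, ⟨(τ, σ), rfl⟩, Equiv.ext fun y => by cases y <;> rfl⟩
      have hW : alternatingFiveWreathTwo ≤ Subgroup.normalizer (B : Set (Equiv.Perm Lab)) := by
        rw [alternatingFiveWreathTwo, Subgroup.closure_le]
        rintro _ (⟨p, r, rfl⟩ | rfl)
        · exact Subgroup.le_normalizer ⟨_, ⟨(p, r), rfl⟩, rfl⟩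
        · refine Subgroup.mem_normalizer_iff.2 fun y => ⟨hswap y, fun h => ?_⟩
          have h2 := hswap _ h
          have hs : (Equiv.sumComm (Fin 5) (Fin 5) : Equiv.Perm Lab) *
              (Equiv.sumComm (Fin 5) (Fin 5) : Equiv.Perm Lab) = 1 := Equiv.ext fun y => by cases y <;> rfl
          rw [inv_eq_of_mul_eq_one_left hs] at h2
          simp only [mul_assoc, hs, mul_one] at h2
          rwa [← mul_assoc, hs, one_mul] at h2
      intro b hb
      obtain ⟨c, hc, hcb⟩ := (Subgroup.mem_normalizer_iff.1 (hW n.2) (b : Equiv.Perm Lab)).1 ⟨b, hb, rfl⟩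
      exact (Subtype.ext hcb : c = n * b * n⁻¹) ▸ hc
    have hc1 : n * baseHom a * n⁻¹ * (baseHom a)⁻¹ ∈ baseHom.range :=
      mul_mem (hh _ ⟨a, rfl⟩) (inv_mem ⟨a, rfl⟩)
    have hc2 : n * baseHom a * n⁻¹ * (baseHom a)⁻¹ ∈ N := by
      rw [show n * baseHom a * n⁻¹ * (baseHom a)⁻¹ = n * (baseHom a * n⁻¹ * (baseHom a)⁻¹) by group]
      exact mul_mem hn ((inferInstance : N.Normal).conj_mem _ (inv_mem hn) _)
    obtain ⟨c, hc⟩ := hc1
    have hcM : c ∈ M := by show baseHom c ∈ N; rw [hc]; exact hc2
    rw [hMbot, Subgroup.mem_bot] at hcM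
    rw [hcM, map_one] at hc
    exact mul_inv_eq_iff_eq_mul.1 (mul_inv_eq_one.1 hc.symm)
  have key : ∀ x y : Lab, (∀ p q : alternatingGroup (Fin 5),
      Equiv.Perm.sumCongr (p : Equiv.Perm (Fin 5)) (q : Equiv.Perm (Fin 5)) x = x →
        Equiv.Perm.sumCongr (p : Equiv.Perm (Fin 5)) (q : Equiv.Perm (Fin 5)) y = y) → x = y := by
    intro x y h
    have hK : ∀ i j : Fin 5, i ≠ j → ∃ p : alternatingGroup (Fin 5),
        (p : Equiv.Perm (Fin 5)) i = i ∧ (p : Equiv.Perm (Fin 5)) j ≠ j := by decide +kernel
    have hK' : ∀ j : Fin 5, ∃ p : alternatingGroup (Fin 5), (p : Equiv.Perm (Fin 5)) j ≠ j := fun j => by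
      obtain ⟨i, hi⟩ := exists_ne j
      obtain ⟨p, -, hp⟩ := hK i j hi
      exact ⟨p, hp⟩
    rcases x with i | i <;> rcases y with j | j
    · by_contra hne
      obtain ⟨p, hi, hj⟩ := hK i j fun e => hne (congrArg Sum.inl e)
      exact hj (Sum.inl_injective (h p 1 (by simp [hi])))
    · obtain ⟨p, hp⟩ := hK' j
      exact absurd (Sum.inr_injective (h 1 p (by simp))) hp
    · obtain ⟨p, hp⟩ := hK' j
      exact absurd (Sum.inl_injective (h p 1 (by simp))) hp
    · by_contra hne
      obtain ⟨p, hi, hj⟩ := hK i j fun e => hne (congrArg Sum.inr e)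
      exact hj (Sum.inr_injective (h 1 p (by simp [hi])))
  refine Subtype.ext (Equiv.ext fun x => (key x _ fun p q hpq => ?_).symm)
  have h1 := congrArg (fun w : alternatingFiveWreathTwo => (w : Equiv.Perm Lab) x) (hbase (p, q))
  simp only [Subgroup.coe_mul, Equiv.Perm.mul_apply, coe_baseHom] at h1
  rw [hpq] at h1
  exact h1.symm

theorem sigma_conj : (permLift sigPerm : Co0) * gFive * ((permLift sigPerm : Co0))⁻¹ = gFive ^ 2 := by
  have h : sigPerm * piPerm * sigPerm⁻¹ = piPerm ^ 2 := by
    rw [mul_inv_eq_iff_eq_mul]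
    refine Subtype.ext (Equiv.ext fun p => ptEquiv.injective (Fin.ext ?_))
    simp only [Subgroup.coe_mul, sq, Equiv.Perm.mul_apply, piPerm_val]
    show (ptEquiv (permOf ptEquiv sigL _)).val = piL.getD (piL.getD (ptEquiv (permOf ptEquiv sigL p)).val 0) 0
    rw [permOf_apply ptEquiv sigL_valid, permOf_apply ptEquiv sigL_valid, piPerm_val]
    exact (by decide +kernel : ∀ i < 24, sigL.getD (piL.getD i 0) 0 = piL.getD (piL.getD (sigL.getD i 0) 0) 0)
      _ (ptEquiv p).isLt
  have h' := congrArg (fun σ : M24 => (permLift σ : Co0)) h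
  simpa [gFive, map_mul, map_inv, map_pow] using h'

end CfsgLib.MonsterType.FiveCentral
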