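import Cfsg.Agent.Lib.MonsterType.FiveCentral.Classes

/-!
# An upper bound for the centraliser of the automorphism of order five
-/

set_option autoImplicit false
set_option maxRecDepth 100000

namespace CfsgLib.MonsterType.FiveCentral

open Cfsg CfsgLib.Golay CfsgLib.Leech CfsgLib.Leech.CoTwo
open scoped Pointwise

/-- The four octads consisting of an orbit of length five and three fixed points. -/
def orbitOcts : List ℕ := [1116327, 57883, 4330601, 11272490]

/-- The octad of the orbit through a moved point. -/
def octOf (i : ℕ) : ℕ := (orbitOcts.find? fun o => o.testBit i).getD 0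

/-- The orbit of a point. -/
def orbitOf (i : ℕ) : List ℕ :=
  let j := piL.getD i 0
  let k := piL.getD j 0
  let l := piL.getD k 0
  [i, j, k, l, piL.getD l 0]

/-- A derivation: fixing an orbit and two fixed points determines an element. -/
def fiveDerivation : List (ℕ × List ℕ) :=
  [(23, [9506893, 9652360]), (12, [9506893, 5511305]), (6, [9506893]), (19, [14254209, 864389]),
    (10, [9968772]), (1, [10305542, 5902343]), (5, [8983587]), (21, [3739786]), (4, [3736597]),
    (14, [10305542, 11100169]), (18, [10305542]), (13, [11100169]), (17, [10170384]), (22, [13062145]),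
    (15, [4845570]), (9, [8077824]), (8, [4038912])]

theorem fiveDerivation_ok : fixCheck [2, 16, 7, 11, 20, 0, 3] fiveDerivation = true := by decide +kernel

theorem oct_facts : ((List.range 24).all fun i => piL.getD i 0 == i ||
    (inCode (octOf i) && bitCount (octOf i) == 8 &&
      (orbitOf i).all (fun j => decide (j < 24) && (octOf i).testBit j) &&
      decide (orbitOf i).Nodup)) = true := by decide +kernel

/-- The possible pairs of images of the two base points. -/
def targets : List (ℕ × ℕ) :=
  (List.range 24 ×ˢ List.range 24).filter fun x =>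
    piL.getD x.1 0 != x.1 && piL.getD x.2 0 == x.2 && (octOf x.1).testBit x.2

theorem targets_length : targets.length = 60 := by decide +kernel

theorem coe_piPerm : (piPerm : Equiv.Perm GolayPt) = permOf ptEquiv piL := rfl

theorem piPerm_val (q : GolayPt) :
    (ptEquiv ((piPerm : Equiv.Perm GolayPt) q)).val = piL.getD (ptEquiv q).val 0 := by
  rw [coe_piPerm, permOf_apply ptEquiv piL_valid]

theorem piPerm_pt {i : ℕ} (hi : i < 24) : (piPerm : Equiv.Perm GolayPt) (pt i) = pt (piL.getD i 0) := by
  rw [← pt_ptEquiv ((piPerm : Equiv.Perm GolayPt) (pt i)), piPerm_val, ptEquiv_pt hi]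

section Perm

variable {σ : Equiv.Perm GolayPt} (hσ : σ ∈ M24)
  (hc : ∀ q, σ ((piPerm : Equiv.Perm GolayPt) q) = (piPerm : Equiv.Perm GolayPt) (σ q))

include hc

theorem orbit_image {i : ℕ} (hi : i < 24) :
    (orbitOf i).map (fun j => (ptEquiv (σ (pt j))).val) = orbitOf (ptEquiv (σ (pt i))).val := by
  have step : ∀ j < 24, (ptEquiv (σ (pt (piL.getD j 0)))).val = piL.getD (ptEquiv (σ (pt j))).val 0 := by
    intro j hj
    rw [← piPerm_pt hj, hc, piPerm_val]
  have hlt : ∀ j < 24, piL.getD j 0 < 24 := fun j hj => validL_getD_lt piL_valid hj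
  have h1 := hlt i hi
  have h2 := hlt _ h1
  have h3 := hlt _ h2
  simp only [orbitOf, List.map_cons, List.map_nil, step i hi, step _ h1, step _ h2, step _ h3]

include hσ

theorem image_oct {i : ℕ} (hi : i < 24) (hm : piL.getD i 0 ≠ i) :
    σ • toSet (octOf i) = toSet (octOf (ptEquiv (σ (pt i))).val) := by
  set x := (ptEquiv (σ (pt i))).val with hx
  have hxm : piL.getD x 0 ≠ x := by
    intro h
    have h1 : (piPerm : Equiv.Perm GolayPt) (σ (pt i)) = σ (pt i) :=
      ptEquiv.injective (Fin.ext (by rw [piPerm_val]; exact h))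
    rw [← hc] at h1
    have h2 := congrArg (fun p => (ptEquiv p).val) (σ.injective h1)
    simp only [piPerm_val, ptEquiv_pt hi] at h2
    exact hm h2
  have h := oct_facts
  simp only [List.all_eq_true, List.mem_range, Bool.or_eq_true, beq_iff_eq, Bool.and_eq_true,
    decide_eq_true_eq] at h
  obtain ⟨⟨⟨hcode, h8⟩, horb⟩, -⟩ := (h i hi).resolve_left hm
  obtain ⟨⟨⟨hcode', h8'⟩, horb'⟩, hnd'⟩ := (h x (ptEquiv _).isLt).resolve_left hxm
  refine octad_unique (octads_smul hσ (mem_wordsOfWeight.2 ⟨_, mem_golayList_of_inCode hcode, h8, rfl⟩))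
    (mem_wordsOfWeight.2 ⟨_, mem_golayList_of_inCode hcode', h8', rfl⟩)
    (five_le_card_of_mem hnd' (by simp [orbitOf]) (fun j hj => (horb' j hj).1) fun j hj => ?_)
  refine Finset.mem_inter.2 ⟨?_, (pt_mem_toSet (horb' j hj).1).2 (horb' j hj).2⟩
  rw [← orbit_image hc hi, List.mem_map] at hj
  obtain ⟨k, hk, rfl⟩ := hj
  rw [pt_ptEquiv, ← Equiv.Perm.smul_def]
  exact Finset.smul_mem_smul_finset ((pt_mem_toSet (horb k hk).1).2 (horb k hk).2)

theorem mem_targets : ((ptEquiv (σ (pt 2))).val, (ptEquiv (σ (pt 0))).val) ∈ targets := by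
  have hfix : ∀ i < 24, piL.getD i 0 = i → piL.getD (ptEquiv (σ (pt i))).val 0 = (ptEquiv (σ (pt i))).val := by
    intro i hi h
    have h1 := piPerm_pt hi
    rw [h] at h1
    have h2 := congrArg (fun p => (ptEquiv p).val) (hc (pt i))
    simp only [h1, piPerm_val] at h2
    exact h2.symm
  have hne : piL.getD (ptEquiv (σ (pt 2))).val 0 ≠ (ptEquiv (σ (pt 2))).val := by
    intro h
    have h1 : (piPerm : Equiv.Perm GolayPt) (σ (pt 2)) = σ (pt 2) :=
      ptEquiv.injective (Fin.ext (by rw [piPerm_val]; exact h))
    rw [← hc, σ.injective.eq_iff, piPerm_pt (by norm_num)] at h1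
    have h2 := congrArg (fun p => (ptEquiv p).val) h1
    rw [show piL.getD 2 0 = 16 by decide +kernel] at h2
    simp only [ptEquiv_pt (show 16 < 24 by norm_num), ptEquiv_pt (show 2 < 24 by norm_num)] at h2
    omega
  have hbit : (octOf (ptEquiv (σ (pt 2))).val).testBit (ptEquiv (σ (pt 0))).val = true := by
    rw [← mem_toSet, ← image_oct hσ hc (by norm_num : 2 < 24) (by decide +kernel), ← Equiv.Perm.smul_def]
    exact Finset.smul_mem_smul_finset ((pt_mem_toSet (by norm_num)).2 (by decide +kernel))
  simp only [targets, List.mem_filter, List.pair_mem_product, List.mem_range, Bool.and_eq_true, bne_iff_ne,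
    beq_iff_eq]
  exact ⟨List.mem_product.2 ⟨List.mem_range.2 (ptEquiv _).isLt, List.mem_range.2 (ptEquiv _).isLt⟩, ⟨hne, hfix 0 (by norm_num) (by decide +kernel)⟩, hbit⟩

theorem eq_one_of_two (h2 : σ (pt 2) = pt 2) (h0 : σ (pt 0) = pt 0) : σ = 1 := by
  have horb : ∀ j ∈ orbitOf 2, σ (pt j) = pt j := by
    intro j hj
    have h := orbit_image hc (σ := σ) (show 2 < 24 by norm_num)
    rw [h2, ptEquiv_pt (show 2 < 24 by norm_num)] at h
    have key : ∀ k < 5, (ptEquiv (σ (pt ((orbitOf 2).getD k 0)))).val = (orbitOf 2).getD k 0 := by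
      intro k hk
      have h' := congrArg (fun l => l.getD k 0) h
      rwa [List.getD_eq_getElem _ _ (by simp [orbitOf]; omega), List.getElem_map,
        ← List.getD_eq_getElem _ 0 (by simp [orbitOf]; omega)] at h'
    obtain ⟨k, hk, rfl⟩ := List.getElem_of_mem hj
    have h3 := key k (by simpa [orbitOf] using hk)
    rw [List.getD_eq_getElem _ _ hk] at h3
    rw [← pt_ptEquiv (σ (pt _)), h3]
  have h3 : σ (pt 3) = pt 3 := by
    have himg := image_oct hσ hc (show 2 < 24 by norm_num) (by decide +kernel)
    rw [h2, ptEquiv_pt (show 2 < 24 by norm_num)] at himg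
    have hfix3 : piL.getD (ptEquiv (σ (pt 3))).val 0 = (ptEquiv (σ (pt 3))).val := by
      have h1 := piPerm_pt (show 3 < 24 by norm_num)
      rw [show piL.getD 3 0 = 3 by decide +kernel] at h1
      have h4 := congrArg (fun p => (ptEquiv p).val) (hc (pt 3))
      simp only [h1, piPerm_val] at h4
      exact h4.symm
    have hnot : (octOf 2).testBit (ptEquiv (σ (pt 3))).val = false := by
      by_contra hb
      rw [Bool.not_eq_false, ← mem_toSet, ← himg, ← Equiv.Perm.smul_def, Finset.smul_mem_smul_finset_iff,
        pt_mem_toSet (show 3 < 24 by norm_num)] at hb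
      exact absurd hb (by decide +kernel)
    have key : ∀ i < 24, piL.getD i 0 = i → (octOf 2).testBit i = false → i = 3 := by decide +kernel
    rw [← pt_ptEquiv (σ (pt 3)), key _ (ptEquiv _).isLt hfix3 hnot]
  refine eq_one_of_fixCheck hσ fiveDerivation_ok fun q hq => ?_
  rw [← pt_ptEquiv q]
  have hmem : (ptEquiv q).val ∈ orbitOf 2 ∨ (ptEquiv q).val = 0 ∨ (ptEquiv q).val = 3 := by
    have : ∀ x ∈ [2, 16, 7, 11, 20, 0, 3], x ∈ orbitOf 2 ∨ x = 0 ∨ x = 3 := by decide +kernel
    exact this _ hq
  rcases hmem with h | h | h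
  · exact horb _ h
  · rw [h]; exact h0
  · rw [h]; exact h3

end Perm

theorem card_perm_centralizer : Nat.card (Subgroup.centralizer ({piPerm} : Set M24)) ≤ 60 := by
  classical
  have hcomm : ∀ σ : Subgroup.centralizer ({piPerm} : Set M24), ∀ q,
      ((σ : M24) : Equiv.Perm GolayPt) ((piPerm : Equiv.Perm GolayPt) q) =
        (piPerm : Equiv.Perm GolayPt) (((σ : M24) : Equiv.Perm GolayPt) q) := fun σ q => by
    have h := congrArg (fun τ : M24 => (τ : Equiv.Perm GolayPt) q) (Subgroup.mem_centralizer_singleton_iff.1 σ.2)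
    exact h
  let f : Subgroup.centralizer ({piPerm} : Set M24) → (targets.toFinset : Finset (ℕ × ℕ)) := fun σ =>
    ⟨_, List.mem_toFinset.2 (mem_targets (σ : M24).2 (hcomm σ))⟩
  have hf : Function.Injective f := by
    intro a b h
    simp only [f, Subtype.mk.injEq, Prod.mk.injEq] at h
    have h2 := ptEquiv.injective (Fin.ext h.1)
    have h0 := ptEquiv.injective (Fin.ext h.2)
    have hone : (((b⁻¹ * a : Subgroup.centralizer ({piPerm} : Set M24)) : M24) : Equiv.Perm GolayPt) = 1 := by
      refine eq_one_of_two ((b⁻¹ * a : Subgroup.centralizer ({piPerm} : Set M24)) : M24).2 (hcomm _) ?_ ?_ <;>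
        simp [h2, h0]
    exact (inv_mul_eq_one.1 (Subtype.ext (Subtype.ext hone) : b⁻¹ * a = 1)).symm
  refine (Nat.card_le_card_of_injective f hf).trans ?_
  rw [Nat.card_eq_fintype_card, Fintype.card_coe]
  exact (List.toFinset_card_le _).trans targets_length.le

/-- The centraliser in the monomial group. -/
theorem card_mono_centralizer :
    Nat.card ↥(Subgroup.centralizer ({gFive} : Set Co0) ⊓ crossStab) ≤ 960 := by
  classical
  set H : Subgroup Co0 := Subgroup.centralizer ({gFive} : Set Co0) ⊓ crossStab
  let φ : H →* M24 := permPart.comp (Subgroup.inclusion inf_le_right)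
  have hgP : permPart (permLift piPerm) = piPerm := permPart_permLift _
  have him : φ.range ≤ Subgroup.centralizer ({piPerm} : Set M24) := by
    rintro _ ⟨h, rfl⟩
    rw [Subgroup.mem_centralizer_singleton_iff, ← hgP]
    simp only [φ, MonoidHom.comp_apply, ← map_mul]
    refine congrArg permPart (Subtype.ext ?_)
    exact Subgroup.mem_centralizer_singleton_iff.1 h.2.1
  have hker : Nat.card φ.ker ≤ 16 := by
    set L := golayList.filter fun n => (List.range 24).all fun i => n.testBit (piL.getD i 0) == n.testBit i
      with hL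
    have hLlen : L.length = 16 := by
      rw [hL, ← List.countP_eq_length_filter, countP_golayList]
      exact inv_code_count
    have key : ∀ k : φ.ker, ∃ n ∈ L.toFinset, ∀ v : leechLattice,
        ((((k : H) : Co0) • v : leechLattice) : GolayPt → ℤ) = signedPerm 1 (toSet n) v := by
      intro k
      obtain ⟨σ, hσ, c, hc, hk⟩ := exists_monoAut_of_mem (k : H).2.2
      have h1 : σ = 1 := by
        have hk1 : permPart (Subgroup.inclusion inf_le_right (k : H)) = 1 := k.2
        rw [← permOfMono_eq (g := Subgroup.inclusion inf_le_right (k : H)) hk]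
        exact congrArg Subtype.val hk1
      subst h1
      obtain ⟨n, hn, rfl⟩ := mem_supports.1 hc
      refine ⟨n, ?_, fun v => by rw [hk, coe_monoAut_smul]⟩
      rw [List.mem_toFinset, hL, List.mem_filter]
      refine ⟨hn, ?_⟩
      simp only [List.all_eq_true, List.mem_range, beq_iff_eq]
      intro i hi
      have hcm := Subgroup.mem_centralizer_singleton_iff.1 (k : H).2.1
      have h2 := congrArg (fun g : Co0 =>
        ((g • axisVec (pt i) 8 dvd_rfl : leechLattice) : GolayPt → ℤ) ((piPerm : Equiv.Perm GolayPt) (pt i))) hcm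
      have hgF : gFive = monoAut (piPerm : Equiv.Perm GolayPt) piPerm.2 ∅ codeSet_empty := rfl
      simp only [hk, hgF, mul_smul, coe_monoAut_smul, coe_axisVec, signedPerm_single, Equiv.Perm.one_apply,
        Finset.notMem_empty, if_false, Pi.single_eq_same, piPerm_pt hi,
        pt_mem_toSet (validL_getD_lt piL_valid hi), pt_mem_toSet hi] at h2
      cases hA : n.testBit (piL.getD i 0) <;> cases hB : n.testBit i <;> simp_all
    choose n hn hkn using key
    have hinj : Function.Injective fun k : φ.ker => (⟨n k, hn k⟩ : (L.toFinset : Finset ℕ)) := by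
      intro a b h
      have hab : n a = n b := congrArg Subtype.val h
      exact Subtype.ext (Subtype.ext (co_ext fun v => Subtype.ext (by rw [hkn, hkn, hab])))
    refine (Nat.card_le_card_of_injective _ hinj).trans ?_
    rw [Nat.card_eq_fintype_card, Fintype.card_coe]
    exact (List.toFinset_card_le _).trans hLlen.le
  have h := φ.ker.card_mul_index
  rw [Subgroup.index_ker] at h
  have h2 := (Subgroup.card_le_of_le him).trans card_perm_centralizer
  rw [← h]
  calc Nat.card φ.ker * Nat.card φ.range ≤ 16 * 60 := Nat.mul_le_mul hker h2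
    _ = 960 := by norm_num

/-- The centraliser of the automorphism has order at most 72000. -/
theorem card_centralizer_le : Nat.card (Subgroup.centralizer ({gFive} : Set Co0)) ≤ 72000 := by
  classical
  set C := Subgroup.centralizer ({gFive} : Set Co0)
  have hg : gFive ∈ crossStab := (permLift piPerm).2
  have hstab : Nat.card (MulAction.stabilizer C stdSet) ≤ 960 := by
    have e : MulAction.stabilizer C stdSet = (C ⊓ crossStab).subgroupOf C := by
      ext k
      simp only [MulAction.mem_stabilizer_iff, Subgroup.mem_subgroupOf, Subgroup.mem_inf, crossStab]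
      exact ⟨fun h => ⟨k.2, h⟩, fun h => h.2⟩
    rw [e, Nat.card_congr (Subgroup.subgroupOfEquivOfLe inf_le_left).toEquiv]
    exact card_mono_centralizer
  set S : Finset (Set leechLattice) := bigClasses.toFinset.image fun c => leechEven.cls8 (repV c) with hS
  have hsub : MulAction.orbit C stdSet ⊆ (S : Set (Set leechLattice)) := by
    rintro _ ⟨k, rfl⟩
    have hkc : (k : Co0) * gFive = gFive * (k : Co0) := Subgroup.mem_centralizer_singleton_iff.1 k.2
    have hw : sqNorm (((k : Co0) • baseVec : leechLattice) : GolayPt → ℤ) = 64 := by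
      rw [sqNorm_smul_co, baseVec, coe_axisVec, sqNorm_single]; norm_num
    have hfix : gFive • (k : Co0) • baseVec - (k : Co0) • baseVec ∈ twoMul leechLattice := by
      rw [← mul_smul, ← hkc, mul_smul, ← smul_sub']
      exact smul_mem_twoMul _ (mem_crossStab_iff_congr.1 hg)
    obtain ⟨c, hc, hcv⟩ := exists_cl hfix
    have hbig := big_class hw hc hcv
    have hrep : sqNorm (repV c : GolayPt → ℤ) = 8 * 8 := by
      have h := hbig
      simp only [bigClasses, List.mem_filter, beq_iff_eq] at h
      rw [sqNorm_repV hc, h.2]; norm_num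
    have hcls : (k : Co0) • stdSet = leechEven.cls8 (repV c) := by
      rw [stdSet_eq_cls8, smul_cls8]
      refine (cls8_eq ⟨inner_self_of_norm hrep, ?_⟩).symm
      have := sub_mem hcv (rep_congr hc)
      rwa [sub_sub_sub_cancel_right] at this
    rw [Finset.mem_coe, hS, Finset.mem_image]
    exact ⟨c, List.mem_toFinset.2 hbig, hcls.symm⟩
  have horb : (MulAction.orbit C stdSet).ncard ≤ 75 := by
    refine (Set.ncard_le_ncard hsub (Finset.finite_toSet _)).trans ?_
    rw [Set.ncard_coe_finset]
    exact Finset.card_image_le.trans ((List.toFinset_card_le _).trans bigClasses_length.le)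
  have h := (MulAction.stabilizer C stdSet).card_mul_index
  rw [MulAction.index_stabilizer] at h
  rw [← h]
  calc Nat.card (MulAction.stabilizer C stdSet) * (MulAction.orbit C stdSet).ncard ≤ 960 * 75 :=
        Nat.mul_le_mul hstab horb
    _ = 72000 := by norm_num

end CfsgLib.MonsterType.FiveCentral
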