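import Cfsg.Agent.Lib.MonsterType.FiveCentral.Data
import Cfsg.Agent.Lib.MonsterType.Frame
import Cfsg.Agent.Lib.Leech.CoTwo.LatMat

/-!
# The element of order five fixing four coordinates, and the finite checks
-/

set_option autoImplicit false
set_option maxRecDepth 100000
set_option Elab.async false

namespace CfsgLib.MonsterType.FiveCentral

open Cfsg CfsgLib.Golay CfsgLib.Leech CfsgLib.Leech.CoTwo

/-- The permutation of cycle type five to the fourth power. -/
noncomputable def piPerm : M24 :=
  ⟨permOf ptEquiv piL, mem_M24_of_test (by decide +kernel)⟩

/-- The permutation squaring it by conjugation. -/
noncomputable def sigPerm : M24 :=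
  ⟨permOf ptEquiv sigL, mem_M24_of_test (by decide +kernel)⟩

/-- The automorphism of order five. -/
noncomputable def gFive : Co0 := (permLift piPerm : Co0)

/-- The image of a coordinate list under the permutation. -/
def permL (L : List ℕ) (l : List ℤ) : List ℤ :=
  (List.range 24).map fun i => l.getD (L.idxOf i) 0

/-- The difference of two coordinate lists. -/
def subL (a b : List ℤ) : List ℤ := (List.range 24).map fun i => a.getD i 0 - b.getD i 0

/-- The sum of two coordinate lists. -/
def addL (a b : List ℤ) : List ℤ := (List.range 24).map fun i => a.getD i 0 + b.getD i 0

/-- The difference of two lattice vectors is twice a lattice vector. -/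
def halfTest (a b : List ℤ) : Bool :=
  ((List.range 24).all fun i => (a.getD i 0 - b.getD i 0) % 2 == 0) &&
    leechTest ((List.range 24).map fun i => (a.getD i 0 - b.getD i 0) / 2)

/-- The fixed class with a given number, as a coordinate list. -/
def clL (c : ℕ) : List ℤ :=
  (List.range 24).map fun i => ((List.range 8).map fun k =>
    if c.testBit k then (repVecs.getD (2 ^ k) []).getD i 0 else 0).sum

/-- The eight fixed vectors followed by sixteen moved ones. -/
def allVecs : List (List ℤ) :=
  ((List.range 8).map fun k => repVecs.getD (2 ^ k) []) ++ moveVecs.map fun u => subL u (permL piL u)

/-- The numbers of the classes of squared length 64. -/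
def bigClasses : List ℕ :=
  (List.range 256).filter fun c => dotL (repVecs.getD c []) (repVecs.getD c []) == 64

theorem piL_valid : validL 24 piL = true := by decide +kernel

theorem sigL_valid : validL 24 sigL = true := by decide +kernel

theorem reps_ok : ((List.range 256).all fun c =>
    leechTest (repVecs.getD c []) && leechTest (clL c) && halfTest (repVecs.getD c []) (clL c) &&
      decide (dotL (repVecs.getD c []) (repVecs.getD c []) ≤ 64)) = true := by decide +kernel

theorem fixed_ok : ((List.range 8).all fun k =>
    permL piL (repVecs.getD (2 ^ k) []) == repVecs.getD (2 ^ k) []) = true := by decide +kernel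

theorem move_ok : (moveVecs.all leechTest &&
    moveVecs.all fun u => decide (((List.range 24).all fun i =>
      (subL u (permL piL u)).getD i 0 == u.getD i 0 - u.getD (piL.idxOf i) 0) = true)) = true := by
  decide +kernel

theorem all_ok : (allVecs.length == 24 && allVecs.all leechTest && dualVecs.all leechTest) = true := by
  decide +kernel

theorem dual_ok : ((List.range 24).all fun i => (List.range 24).all fun j =>
    (dotL (allVecs.getD i []) (dualVecs.getD j []) / 8) % 2 == (if i = j then 1 else 0)) = true := by
  decide +kernel

theorem bigClasses_length : bigClasses.length = 75 := by decide +kernel

theorem matA_ok : matCheck matA matA = true := by decide +kernel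

theorem matB_ok : matCheck matB matBT = true := by decide +kernel

theorem matBT_ok : matCheck matBT matB = true := by decide +kernel

theorem matX_ok : matCheck matX matX = true := by decide +kernel

/-- The first generator commutes with the permutation on the generating vectors. -/
theorem gen_comm_ok : (genList.all fun l =>
    imgList matA (imgList matB (permL piL l)) == permL piL (imgList matA (imgList matB l))) = true := by
  decide +kernel

/-- The second generator commutes with the permutation on the generating vectors. -/
theorem x_comm_ok : (genList.all fun l =>
    imgList matX (permL piL l) == permL piL (imgList matX l)) = true := by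
  decide +kernel

/-- The images of the bases of the subspaces. -/
def spaceTest (f : List ℤ → List ℤ) (per : List ℕ) (imgs : List (List ℕ)) : Bool :=
  (List.range 10).all fun i => decide (per.getD i 0 < 10) && (List.range 4).all fun k =>
    let c := (spaceBases.getD i []).getD k 0
    let d := (imgs.getD i []).getD k 0
    decide (c < 256) && decide (d < 256) && (spanList (spaceBases.getD (per.getD i 0) [])).contains d &&
      leechTest (f (clL c)) && halfTest (f (clL c)) (clL d)

theorem g_space_ok : spaceTest (fun l => imgList matA (imgList matB l)) gPerm gImages = true := by
  decide +kernel

theorem gInv_space_ok : spaceTest (fun l => imgList matBT (imgList matA l)) gInvPerm gInvImages = true := by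
  decide +kernel

theorem x_space_ok : spaceTest (imgList matX) xPerm xImages = true := by decide +kernel

theorem spaces_ok : ((List.range 10).all fun i =>
    (spaceBases.getD i []).length == 4 &&
    (spanList (spaceBases.getD i [])).all (fun c => decide (c < 256)) &&
    (List.range 10).all fun j => decide (i = j) ||
      !((spaceBases.getD i []).all fun c => (spanList (spaceBases.getD j [])).contains c)) = true := by
  decide +kernel

theorem inv_code_count : countSpan (fun n =>
    (List.range 24).all fun i => n.testBit (piL.getD i 0) == n.testBit i) golayBasis 0 = 16 := by
  decide +kernel

end CfsgLib.MonsterType.FiveCentral
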