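import Cfsg.Agent.Lib.MonsterType.FiveCentral.Checks
import Cfsg.Agent.Lib.Golay.Cosets

/-!
# The classes modulo two fixed by the automorphism of order five
-/

set_option autoImplicit false
set_option maxRecDepth 100000

namespace CfsgLib.MonsterType.FiveCentral

open Cfsg CfsgLib.Golay CfsgLib.Leech CfsgLib.Leech.CoTwo

/-- The lattice vector with the listed coordinates. -/
def lv (l : List ℤ) : leechLattice :=
  if h : leechTest l = true then ⟨toVec l, mem_of_leechTest h⟩ else 0

theorem coe_lv {l : List ℤ} (h : leechTest l = true) : (lv l : GolayPt → ℤ) = toVec l := by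
  rw [lv, dif_pos h]

theorem half_congr {a b : List ℤ} (ha : leechTest a = true) (hb : leechTest b = true)
    (h : halfTest a b = true) : lv a - lv b ∈ twoMul leechLattice := by
  simp only [halfTest, Bool.and_eq_true, List.all_eq_true, List.mem_range, beq_iff_eq] at h
  refine mem_twoMul.2 ⟨lv ((List.range 24).map fun i => (a.getD i 0 - b.getD i 0) / 2), Subtype.ext ?_⟩
  rw [AddSubgroup.coe_zsmul, AddSubgroup.coe_sub, coe_lv h.2, coe_lv ha, coe_lv hb]
  funext p
  simp only [Pi.smul_apply, Pi.sub_apply, smul_eq_mul, toVec_range]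
  have := h.1 (ptEquiv p).val (ptEquiv p).isLt
  simp only [toVec]
  omega

theorem permOf_symm_val {L : List ℕ} (hL : validL 24 L = true)
    (hidx : ∀ i < 24, L.idxOf (L.getD i 0) = i) (p : GolayPt) :
    (ptEquiv ((permOf ptEquiv L).symm p)).val = L.idxOf (ptEquiv p).val := by
  have h := permOf_apply ptEquiv hL ((permOf ptEquiv L).symm p)
  rw [Equiv.apply_symm_apply] at h
  rw [h, hidx _ (ptEquiv _).isLt]

theorem piL_idx : ∀ i < 24, piL.idxOf (piL.getD i 0) = i := by decide +kernel

theorem coe_gFive_smul (v : leechLattice) :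
    ((gFive • v : leechLattice) : GolayPt → ℤ) =
      fun p => (v : GolayPt → ℤ) ((permOf ptEquiv piL).symm p) := by
  funext p
  show ((monoAut (piPerm : Equiv.Perm GolayPt) piPerm.2 ∅ codeSet_empty • v : leechLattice) :
    GolayPt → ℤ) p = _
  rw [coe_monoAut_smul]
  simp [signedPerm, piPerm]

theorem toVec_permL (l : List ℤ) :
    toVec (permL piL l) = fun p => toVec l ((permOf ptEquiv piL).symm p) := by
  funext p
  rw [permL, toVec_range]
  simp only [toVec, permOf_symm_val piL_valid piL_idx]

theorem gFive_lv {l : List ℤ} (hl : leechTest l = true) :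
    ((gFive • lv l : leechLattice) : GolayPt → ℤ) = toVec (permL piL l) := by
  rw [coe_gFive_smul, toVec_permL, coe_lv hl]

theorem gFive_pow_five : gFive ^ 5 = 1 := by
  have h : piPerm ^ 5 = 1 := by
    refine Subtype.ext ?_
    show (permOf ptEquiv piL) ^ 5 = 1
    refine Equiv.ext fun p => ptEquiv.injective (Fin.ext ?_)
    simp only [pow_succ, pow_zero, one_mul, Equiv.Perm.mul_apply, Equiv.Perm.one_apply,
      permOf_apply ptEquiv piL_valid]
    exact (by decide +kernel : ∀ i < 24,
      piL.getD (piL.getD (piL.getD (piL.getD (piL.getD i 0) 0) 0) 0) 0 = i) _ (ptEquiv p).isLt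
  rw [gFive, ← SubmonoidClass.coe_pow, ← map_pow, h, map_one, OneMemClass.coe_one]

/-- The fixed basis. -/
def basisV (k : Fin 8) : leechLattice := lv (repVecs.getD (2 ^ k.val) [])

theorem rep_test {c : ℕ} (hc : c < 256) :
    leechTest (repVecs.getD c []) = true ∧ leechTest (clL c) = true ∧
      halfTest (repVecs.getD c []) (clL c) = true ∧
      dotL (repVecs.getD c []) (repVecs.getD c []) ≤ 64 := by
  have h := reps_ok
  simp only [List.all_eq_true, List.mem_range, Bool.and_eq_true, decide_eq_true_eq] at h
  exact ⟨(h c hc).1.1.1, (h c hc).1.1.2, (h c hc).1.2, (h c hc).2⟩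

theorem two_pow_lt : ∀ k : Fin 8, 2 ^ k.val < 256 := by decide

theorem basis_fixed (k : Fin 8) : gFive • basisV k = basisV k := by
  have h := fixed_ok
  simp only [List.all_eq_true, List.mem_range, beq_iff_eq] at h
  refine Subtype.ext ?_
  rw [basisV, gFive_lv (rep_test (two_pow_lt k)).1, h k.val k.isLt, coe_lv (rep_test (two_pow_lt k)).1]

/-- The short representative of a fixed class. -/
def repV (c : ℕ) : leechLattice := lv (repVecs.getD c [])

/-- The sum of basis vectors selected by the bits of a number. -/
def clV (c : ℕ) : leechLattice := ∑ k : Fin 8, if c.testBit k then basisV k else 0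

theorem clV_fixed (c : ℕ) : gFive • clV c = clV c := by
  rw [← actHom_apply, clV, map_sum]
  refine Finset.sum_congr rfl fun k _ => ?_
  split
  · exact basis_fixed k
  · exact map_zero _

theorem coe_clV (c : ℕ) : (clV c : GolayPt → ℤ) = toVec (clL c) := by
  funext p
  rw [clV, clL, toVec_range, AddSubgroup.val_finsetSum, Finset.sum_apply]
  simp only [Fin.sum_univ_eight, List.range_succ_eq_map, List.map_cons, List.map_map, List.sum_cons,
    List.range_zero, List.map_nil, List.sum_nil, Function.comp_apply, add_zero]
  have e : ∀ k : Fin 8, ((if c.testBit k then basisV k else 0 : leechLattice) : GolayPt → ℤ) p =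
      if c.testBit k then (repVecs.getD (2 ^ k.val) []).getD (ptEquiv p).val 0 else 0 := by
    intro k
    split
    · rw [basisV, coe_lv (rep_test (two_pow_lt k)).1]; rfl
    · rfl
  simp only [e, add_assoc]
  rfl

theorem lv_clL {c : ℕ} (hc : c < 256) : lv (clL c) = clV c :=
  Subtype.ext (by rw [coe_lv (rep_test hc).2.1, coe_clV])

theorem rep_congr {c : ℕ} (hc : c < 256) : repV c - clV c ∈ twoMul leechLattice := by
  rw [← lv_clL hc]
  exact half_congr (rep_test hc).1 (rep_test hc).2.1 (rep_test hc).2.2.1

theorem sqNorm_repV {c : ℕ} (hc : c < 256) :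
    sqNorm (repV c : GolayPt → ℤ) = dotL (repVecs.getD c []) (repVecs.getD c []) := by
  rw [← dotInt_self, repV, coe_lv (rep_test hc).1, dotInt_toVec]

theorem two_smul_mem (x : leechLattice) : x + x ∈ twoMul leechLattice :=
  mem_twoMul.2 ⟨x, two_zsmul x⟩

theorem clV_xor (a b : ℕ) : clV a + clV b - clV (a ^^^ b) ∈ twoMul leechLattice := by
  rw [clV, clV, clV, ← Finset.sum_add_distrib, ← Finset.sum_sub_distrib]
  refine sum_mem fun k _ => ?_
  rw [Nat.testBit_xor]
  cases a.testBit k <;> cases b.testBit k <;> simp <;> exact two_smul_mem _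

/-- The twenty-four vectors. -/
def vecV (i : Fin 24) : leechLattice := lv (allVecs.getD i.val [])

/-- The parity of the inner product with a dual vector. -/
def parity (j : Fin 24) : leechLattice →+ ZMod 2 :=
  (Int.castAddHom (ZMod 2)).comp (innerL.flip (lv (dualVecs.getD j.val [])))

theorem getD_test {L : List (List ℤ)} (h : ∀ l ∈ L, leechTest l = true) {i : ℕ} (hi : i < L.length) :
    leechTest (L.getD i []) = true := by
  rw [List.getD_eq_getElem _ _ hi]; exact h _ (List.getElem_mem hi)

theorem all_test (i : Fin 24) :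
    leechTest (allVecs.getD i.val []) = true ∧ leechTest (dualVecs.getD i.val []) = true := by
  have h := all_ok
  simp only [Bool.and_eq_true, List.all_eq_true, beq_iff_eq] at h
  refine ⟨getD_test h.1.2 (by rw [h.1.1]; exact i.isLt), getD_test h.2 ?_⟩
  rw [show dualVecs.length = 24 by decide +kernel]; exact i.isLt

theorem parity_vecV (i j : Fin 24) : parity j (vecV i) = if i = j then 1 else 0 := by
  have h := dual_ok
  simp only [List.all_eq_true, List.mem_range, beq_iff_eq] at h
  have h' := h i.val i.isLt j.val j.isLt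
  have h8 := eight_mul_inner (vecV i) (lv (dualVecs.getD j.val []))
  rw [vecV, coe_lv (all_test i).1, coe_lv (all_test j).2, dotInt_toVec] at h8
  rw [show parity j (vecV i) = ((innerL (vecV i) (lv (dualVecs.getD j.val [])) : ℤ) : ZMod 2) from rfl,
    vecV, show innerL (lv (allVecs.getD i.val [])) (lv (dualVecs.getD j.val [])) =
      dotL (allVecs.getD i.val []) (dualVecs.getD j.val []) / 8 by omega]
  rw [← ZMod.intCast_mod, Nat.cast_ofNat, h']
  simp only [Fin.val_inj]
  split <;> simp

theorem parity_twoMul (j : Fin 24) {v : leechLattice} (hv : v ∈ twoMul leechLattice) : parity j v = 0 := by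
  obtain ⟨z, rfl⟩ := mem_twoMul.1 hv
  rw [map_zsmul, zsmul_eq_mul]
  rcases zmod_two_or (parity j z) with h | h <;> rw [h] <;> rfl

theorem parity_congr (j : Fin 24) {v w : leechLattice} (h : v - w ∈ twoMul leechLattice) :
    parity j v = parity j w := sub_eq_zero.1 (by rw [← map_sub]; exact parity_twoMul j h)

/-- The class of a combination. -/
def combo (c : Fin 24 → ZMod 2) : leechLattice := ∑ i, (c i).val • vecV i

theorem parity_combo (c : Fin 24 → ZMod 2) (j : Fin 24) : parity j (combo c) = c j := by
  rw [combo, map_sum, Finset.sum_eq_single j]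
  · rw [map_nsmul, parity_vecV, if_pos rfl, nsmul_one, ZMod.natCast_zmod_val]
  · intro i _ hi
    rw [map_nsmul, parity_vecV, if_neg hi, nsmul_zero]
  · intro h; exact absurd (Finset.mem_univ j) h

theorem exists_combo (v : leechLattice) : ∃ c, v - combo c ∈ twoMul leechLattice := by
  let θ : (Fin 24 → ZMod 2) → leechLattice ⧸ twoMul leechLattice := fun c => QuotientAddGroup.mk (combo c)
  have hinj : Function.Injective θ := fun a b h => funext fun j => by
    rw [← parity_combo a j, ← parity_combo b j]
    have h' := QuotientAddGroup.eq.1 h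
    exact parity_congr j (by
      have := neg_mem h'
      rwa [neg_add, neg_neg, ← sub_eq_add_neg] at this)
  have hfin : Finite (leechLattice ⧸ twoMul leechLattice) :=
    Nat.finite_of_card_ne_zero (by rw [card_quot_leech]; norm_num)
  have hbij : Function.Bijective θ := (Nat.bijective_iff_injective_and_card θ).2 ⟨hinj, by
    rw [card_quot_leech, Nat.card_fun, Nat.card_zmod, Nat.card_fin]⟩
  obtain ⟨c, hc⟩ := hbij.2 (QuotientAddGroup.mk v)
  refine ⟨c, ?_⟩
  have h' := QuotientAddGroup.eq.1 hc
  rwa [neg_add_eq_sub] at h'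

/-- The sum of the five translates. -/
noncomputable def orbitSum : leechLattice →+ leechLattice := ∑ k ∈ Finset.range 5, actHom (gFive ^ k)

theorem orbitSum_apply (v : leechLattice) : orbitSum v =
    v + gFive • v + gFive • gFive • v + gFive • gFive • gFive • v +
      gFive • gFive • gFive • gFive • v := by
  simp only [orbitSum, Finset.sum_range_succ, Finset.sum_range_zero, zero_add, AddMonoidHom.add_apply,
    actHom_apply, pow_zero, one_smul, pow_succ, one_mul, mul_smul]

theorem orbitSum_congr {v : leechLattice} (hv : gFive • v - v ∈ twoMul leechLattice) :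
    orbitSum v - v ∈ twoMul leechLattice := by
  have h1 := hv
  have h2 := smul_mem_twoMul gFive h1
  rw [smul_sub'] at h2
  have h2' := add_mem h2 h1
  have h3 := smul_mem_twoMul gFive h2
  rw [smul_sub'] at h3
  have h4 := smul_mem_twoMul gFive h3
  rw [smul_sub'] at h4
  rw [orbitSum_apply]
  set a := gFive • v
  set b := gFive • a
  set c := gFive • b
  set d := gFive • c
  have e : v + a + b + c + d - v = (a - v) + (b - a) + (v + v) + ((d - c) + (c + c)) + (a - v) := by abel
  rw [e]
  exact add_mem (add_mem (add_mem (add_mem h1 h2) (two_smul_mem _)) (add_mem h4 (two_smul_mem _))) h1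

theorem orbitSum_sub (u : leechLattice) : orbitSum (u - gFive • u) = 0 := by
  rw [map_sub, orbitSum_apply, orbitSum_apply]
  have h5 : gFive • gFive • gFive • gFive • gFive • u = u := by
    simp only [← mul_smul]
    rw [show gFive * (gFive * (gFive * (gFive * gFive))) = gFive ^ 5 by
      simp [pow_succ, mul_assoc], gFive_pow_five, one_smul]
  rw [h5]
  abel

theorem vecV_cases (i : Fin 24) : (∃ k : Fin 8, vecV i = basisV k) ∨ ∃ u, vecV i = u - gFive • u := by
  rcases Nat.lt_or_ge i.val 8 with h | h
  · left
    refine ⟨⟨i.val, h⟩, ?_⟩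
    rw [vecV, basisV, allVecs, List.getD_append _ _ _ _ (by simp [h]),
      List.getD_eq_getElem _ _ (by simp [h])]
    simp
  · right
    have hlen : moveVecs.length = 16 := by decide +kernel
    have hi : i.val - 8 < moveVecs.length := by omega
    set u := moveVecs[i.val - 8]
    have hm := move_ok
    simp only [Bool.and_eq_true, List.all_eq_true] at hm
    refine ⟨lv u, Subtype.ext ?_⟩
    rw [vecV, coe_lv (all_test i).1, AddSubgroup.coe_sub, gFive_lv (hm.1 _ (List.getElem_mem hi)),
      coe_lv (hm.1 _ (List.getElem_mem hi))]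
    rw [allVecs, List.getD_append_right _ _ _ _ (by simp [h]), List.getD_eq_getElem _ _ (by simp; omega)]
    simp only [List.getElem_map, List.length_map, List.length_range]
    funext p
    simp only [subL, toVec_range, Pi.sub_apply]
    rfl

/-- The classes fixed by the automorphism are the sums of basis vectors. -/
theorem exists_cl {v : leechLattice} (hv : gFive • v - v ∈ twoMul leechLattice) :
    ∃ c < 256, v - clV c ∈ twoMul leechLattice := by
  obtain ⟨f, hf⟩ := exists_combo v
  have key : ∀ S : Finset (Fin 24), ∃ c < 256,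
      orbitSum (∑ i ∈ S, vecV i) - clV c ∈ twoMul leechLattice := by
    intro S
    induction S using Finset.induction with
    | empty => exact ⟨0, by norm_num, by simp [clV]⟩
    | @insert i S hi ih =>
      obtain ⟨c, hc, hS⟩ := ih
      rw [Finset.sum_insert hi, map_add]
      rcases vecV_cases i with ⟨k, hk⟩ | ⟨u, hu⟩
      · refine ⟨2 ^ k.val ^^^ c, Nat.xor_lt_two_pow (n := 8) (two_pow_lt k) hc, ?_⟩
        have hb : basisV k = clV (2 ^ k.val) := by
          rw [clV, Finset.sum_eq_single k]
          · simp
          · intro j _ hj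
            simp [Fin.val_inj, Ne.symm hj]
          · simp
        have h1 : orbitSum (basisV k) - basisV k ∈ twoMul leechLattice :=
          orbitSum_congr (by rw [basis_fixed, sub_self]; exact zero_mem _)
        rw [hk]
        rw [hb] at h1 ⊢
        have := add_mem (add_mem h1 hS) (clV_xor (2 ^ k.val) c)
        convert this using 1
        abel
      · exact ⟨c, hc, by rw [hu, orbitSum_sub, zero_add]; exact hS⟩
  obtain ⟨c, hc, hS⟩ := key (Finset.univ.filter fun i => f i = 1)
  refine ⟨c, hc, ?_⟩
  have he : combo f = ∑ i ∈ Finset.univ.filter (fun i => f i = 1), vecV i := by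
    rw [Finset.sum_filter, combo]
    refine Finset.sum_congr rfl fun i _ => ?_
    rcases zmod_two_or (f i) with h | h <;> rw [h] <;> simp [ZMod.val_one]
  rw [← he] at hS
  obtain ⟨z, hz⟩ := mem_twoMul.1 hf
  have hT : orbitSum v - orbitSum (combo f) ∈ twoMul leechLattice :=
    mem_twoMul.2 ⟨orbitSum z, by rw [← map_zsmul, hz, map_sub]⟩
  have := add_mem (sub_mem hT (orbitSum_congr hv)) hS
  convert this using 1
  abel

/-- The bits of a class are determined by the class. -/
theorem parity_clV (c : ℕ) (k : Fin 8) :
    parity (Fin.castLE (by norm_num) k) (clV c) = if c.testBit k then 1 else 0 := by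
  have hv : ∀ j : Fin 8, basisV j = vecV (Fin.castLE (by norm_num) j) := fun j => by
    rw [vecV, basisV, allVecs, List.getD_append _ _ _ _ (by simp),
      List.getD_eq_getElem (List.map _ _) _ (by simp)]
    simp
  rw [clV, map_sum, Finset.sum_eq_single k]
  · split
    · rw [hv, parity_vecV, if_pos rfl]
    · exact map_zero _
  · intro j _ hj
    split
    · rw [hv, parity_vecV, if_neg fun e => hj (Fin.castLE_injective _ e)]
    · exact map_zero _
  · simp

theorem clV_inj {a b : ℕ} (ha : a < 256) (hb : b < 256) (h : clV a - clV b ∈ twoMul leechLattice) :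
    a = b := by
  refine Nat.eq_of_testBit_eq fun i => ?_
  rcases Nat.lt_or_ge i 8 with hi | hi
  · have := parity_congr (Fin.castLE (by norm_num : 8 ≤ 24) ⟨i, hi⟩) h
    rw [parity_clV, parity_clV] at this
    revert this
    simp only
    cases a.testBit i <;> cases b.testBit i <;> decide
  · have hp : (256 : ℕ) ≤ 2 ^ i := (by norm_num : (256 : ℕ) = 2 ^ 8) ▸ Nat.pow_le_pow_right (by norm_num) hi
    rw [Nat.testBit_lt_two_pow (by omega), Nat.testBit_lt_two_pow (by omega)]

/-- The fixed classes of squared length 64. -/
theorem big_class {v : leechLattice} (hn : sqNorm (v : GolayPt → ℤ) = 64) {c : ℕ} (hc : c < 256)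
    (h : v - clV c ∈ twoMul leechLattice) : c ∈ bigClasses := by
  have h' := sub_mem h (rep_congr hc)
  rw [sub_sub_sub_cancel_right] at h'
  have := sqNorm_eq_of_congr h' hn.le (by rw [sqNorm_repV hc]; exact (rep_test hc).2.2.2)
  rw [hn, sqNorm_repV hc] at this
  simp only [bigClasses, List.mem_filter, List.mem_range, beq_iff_eq]
  exact ⟨hc, this.symm⟩

end CfsgLib.MonsterType.FiveCentral
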