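import Cfsg.Agent.Lib.MonsterType.FiveCentral.Action
import Cfsg.Agent.Lib.MonsterType.Local.Quot
import Cfsg.Agent.Lib.MonsterType.Local.Move

/-!
# The centraliser of a Sylow 5-subgroup of the joint centraliser, modulo it
-/

set_option autoImplicit false
set_option maxRecDepth 100000

open scoped Pointwise

namespace CfsgLib.MonsterType.FiveCentral

open Cfsg CfsgLib.Golay CfsgLib.Leech CfsgLib.Leech.CoTwo

/-- The fixed basis in the form of the interface. -/
noncomputable def fixBasis : FixBasis gFive (2 * 4) where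
  b := basisV
  fixed := basis_fixed
  span v hv := by
    obtain ⟨c, -, hc⟩ := exists_cl (v := v) (by rw [hv, sub_self]; exact zero_mem _)
    refine ⟨Finset.univ.filter fun k : Fin 8 => c.testBit k = true, ?_⟩
    convert hc using 2
    rw [clV, Finset.sum_filter]
  indep S hS := by
    refine Finset.eq_empty_of_forall_notMem fun k hk => ?_
    have h := parity_twoMul (Fin.castLE (by norm_num) k) hS
    have hv : ∀ j : Fin 8, parity (Fin.castLE (by norm_num) k) (basisV j) = if j = k then 1 else 0 := by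
      intro j
      have hj : basisV j = clV (2 ^ j.val) := by
        rw [clV, Finset.sum_eq_single j]
        · simp
        · intro i _ hi
          simp [Fin.val_inj, Ne.symm hi]
        · simp
      rw [hj, parity_clV]
      simp [Nat.testBit_two_pow, Fin.val_inj]
    rw [map_sum, Finset.sum_congr rfl fun j _ => hv j, Finset.sum_ite_eq' S k, if_pos hk] at h
    exact one_ne_zero h

theorem factorization_m24 : (244823040 : ℕ).factorization 5 = 1 := by
  rw [show (244823040 : ℕ) = 5 * 48964608 by norm_num, Nat.factorization_mul (by norm_num) (by norm_num),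
    Finsupp.add_apply, Nat.Prime.factorization_self (by norm_num),
    Nat.factorization_eq_zero_of_not_dvd (by norm_num)]

theorem factorization_two_pow (m : ℕ) : (2 ^ m * 244823040).factorization 5 = 1 := by
  rw [Nat.factorization_mul (pow_ne_zero _ (by norm_num)) (by norm_num), Finsupp.add_apply, factorization_m24,
    Nat.factorization_eq_zero_of_not_dvd, zero_add]
  exact fun h => absurd (Nat.Prime.dvd_of_dvd_pow (by norm_num) h) (by norm_num : ¬ 5 ∣ 2)

/-- Elements of order five of the monomial group are conjugate to powers of the standard one. -/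
theorem conj_to_gFive {g : Co0} (hg : g ∈ crossStab) (ho : orderOf g = 5) :
    ∃ m ∈ crossStab, gFive ∈ Subgroup.zpowers (m * g * m⁻¹) := by
  classical
  have : Fact (Nat.Prime 5) := ⟨by norm_num⟩
  have : Finite crossStab := Nat.finite_of_card_ne_zero (by rw [card_crossStab]; norm_num)
  have hf : (Nat.card crossStab).factorization 5 = 1 := by
    rw [card_crossStab, show (4096 : ℕ) = 2 ^ 12 by norm_num]
    exact factorization_two_pow 12
  have hgF : gFive ∈ crossStab := (permLift piPerm).2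
  set a : crossStab := ⟨g, hg⟩
  set b : crossStab := ⟨gFive, hgF⟩
  have hoa : orderOf a = 5 := by rw [Subgroup.orderOf_mk]; exact ho
  have hob : orderOf b = 5 := by rw [Subgroup.orderOf_mk]; exact orderOf_gFive
  let PA : Sylow 5 crossStab := Sylow.ofCard (Subgroup.zpowers a) (by rw [Nat.card_zpowers, hoa, hf, pow_one])
  let PB : Sylow 5 crossStab := Sylow.ofCard (Subgroup.zpowers b) (by rw [Nat.card_zpowers, hob, hf, pow_one])
  obtain ⟨m, hm⟩ := MulAction.exists_smul_eq crossStab PA PB
  refine ⟨m, m.2, ?_⟩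
  have hbm : b ∈ ((m • PA : Sylow 5 crossStab) : Subgroup crossStab) := by rw [hm]; exact Subgroup.mem_zpowers b
  rw [Sylow.coe_subgroup_smul, Subgroup.mem_smul_pointwise_iff_exists] at hbm
  obtain ⟨y, hy, hyb⟩ := hbm
  obtain ⟨k, rfl⟩ := Subgroup.mem_zpowers_iff.1 (show y ∈ Subgroup.zpowers a from hy)
  refine Subgroup.mem_zpowers_iff.2 ⟨k, ?_⟩
  have h := congrArg Subtype.val hyb
  simp only [MulAut.smul_def, MulAut.conj_apply, Subgroup.coe_mul, InvMemClass.coe_inv, SubgroupClass.coe_zpow] at h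
  rw [conj_zpow]
  exact h

theorem hpow_five {k : ℕ} (hk : ¬ 5 ∣ k) : ∃ h : Co0, h * gFive * h⁻¹ = gFive ^ k :=
  hpow_of_primitive sigma_conj gFive_pow_five (by decide) hk (by norm_num)

variable {G : Type*} [Group G] [Finite G] {z : G} {Q : Subgroup (Subgroup.centralizer ({z} : Set G))} [Q.Normal]

/-- The centraliser of a Sylow 5-subgroup of the joint centraliser, modulo it, is of Harada–Norton type. -/
theorem isOfHaradaNortonType_quot (hM : IsOfMonsterType z Q) {s : G} (hsQ : s ∈ qG Q) (hs : IsConj z s)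
    (hs1 : s ≠ z) {B : Subgroup G} (hB : B ≤ Subgroup.centralizer ({z, s} : Set G))
    (hBp : Nat.card B = 5 ^ (Nat.card ↥(Subgroup.centralizer ({z, s} : Set G))).factorization 5)
    [hn : (B.subgroupOf (Subgroup.centralizer (B : Set G))).Normal] :
    IsOfHaradaNortonType (↥(Subgroup.centralizer (B : Set G)) ⧸
      B.subgroupOf (Subgroup.centralizer (B : Set G))) := by
  classical
  have : Fact (Nat.Prime 5) := ⟨by norm_num⟩
  obtain ⟨hS, e, ψ, hψ⟩ := id hM
  obtain ⟨hsc, hsQ'⟩ := mem_qG_iff.1 hsQ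
  have hfact : (Nat.card ↥(Subgroup.centralizer ({z, s} : Set G))).factorization 5 = 1 := by
    obtain ⟨v, hv, hvx⟩ := exists_type64_of_conj hS hψ (x := ⟨⟨s, hsc⟩, hsQ'⟩) hs hs1
    obtain ⟨g₀, hg₀⟩ := exists_congr_smul (v := v) (w := baseVec)
      (inner_self_of_norm (by rw [hv]; norm_num)) baseVec_eight
    obtain ⟨m, hm⟩ := card_jointCentralizer hS (isoTwist hψ g₀) (x := ⟨⟨s, hsc⟩, hsQ'⟩) (by
      show ψ (g₀⁻¹ • baseVec) = _
      rw [← hvx]
      refine (psi_eq_iff hψ).2 ?_
      have h := neg_mem (smul_mem_twoMul g₀⁻¹ hg₀)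
      rw [smul_sub', inv_smul_smul, neg_sub] at h
      exact h)
    rw [hm, factorization_two_pow]
  have hcard : Nat.card B = 5 := by rw [hBp, hfact, pow_one]
  obtain ⟨e₁, ψ₁, x, g, rfl, D₁⟩ := exists_localData hM hsQ hs hs1 (by norm_num : Nat.Prime 5) (by norm_num) hB hcard
  obtain ⟨m, hm, hgen⟩ := conj_to_gFive D₁.gmem D₁.gord
  have D₂ := D₁.conj hm
  have hpw : gFive ∈ Submonoid.powers (m * g * m⁻¹) := by
    have hfo : IsOfFinOrder (m * g * m⁻¹) := orderOf_pos_iff.1 (by rw [D₂.gord]; norm_num)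
    rwa [hfo.mem_powers_iff_mem_zpowers]
  obtain ⟨j, hj⟩ := (Submonoid.mem_powers_iff _ _).1 hpw
  have hj5 : ¬ 5 ∣ j := fun hd => gFive_ne_one (by
    rw [← hj]; exact orderOf_dvd_iff_pow_eq_one.1 (by rw [D₂.gord]; exact hd))
  have D := D₂.pow hj5
  rw [hj] at D
  -- the move centralising `B`
  obtain ⟨a, ha, -, hnorm⟩ := exists_swap hS hψ hsQ hs hs1
  set L := Subgroup.centralizer ({z, ((x : Subgroup.centralizer ({z} : Set G)) : G)} : Set G) with hL
  have hBa : B.map (MulAut.conj a).toMonoidHom ≤ L := by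
    rintro _ ⟨b, hb, rfl⟩; exact hnorm b (hB hb)
  have hca : Nat.card ↥(B.map (MulAut.conj a).toMonoidHom) = 5 := by
    rw [Subgroup.card_map_of_injective (MulEquiv.injective _), hcard]
  have hpow : 5 ^ (Nat.card L).factorization 5 = 5 := by rw [hfact, pow_one]
  let P1 : Sylow 5 L := Sylow.ofCard ((B.map (MulAut.conj a).toMonoidHom).subgroupOf L)
    (by rw [hpow, Nat.card_congr (Subgroup.subgroupOfEquivOfLe hBa).toEquiv, hca])
  let P2 : Sylow 5 L := Sylow.ofCard (B.subgroupOf L)
    (by rw [hpow, Nat.card_congr (Subgroup.subgroupOfEquivOfLe hB).toEquiv, hcard])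
  obtain ⟨l, hl⟩ := MulAction.exists_smul_eq L P1 P2
  have hlB : ∀ b ∈ B, (l : G) * a * b * ((l : G) * a)⁻¹ ∈ B := by
    intro b hb
    have hmem : (MulAut.conj l) (⟨a * b * a⁻¹, hBa ⟨b, hb, rfl⟩⟩ : L) ∈ ((l • P1 : Sylow 5 L) : Subgroup L) := by
      rw [Sylow.coe_subgroup_smul, Subgroup.mem_smul_pointwise_iff_exists]
      exact ⟨_, Subgroup.mem_subgroupOf.2 ⟨b, hb, rfl⟩, rfl⟩
    rw [hl] at hmem
    have h2 := Subgroup.mem_subgroupOf.1 (show _ ∈ B.subgroupOf L from hmem)
    simp only [MulAut.conj_apply, Subgroup.coe_mul, InvMemClass.coe_inv] at h2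
    rwa [show (l : G) * a * b * ((l : G) * a)⁻¹ = (l : G) * (a * b * a⁻¹) * (l : G)⁻¹ by group]
  obtain ⟨c, hc, hcs⟩ := D.exists_fix_move (fun k hk => hpow_five hk) ha
    (Subgroup.centralizer_le (by simp) l.2) hlB
  obtain ⟨hz, Qb, hQn, hset, hiso, -⟩ := quot_setting (by norm_num) D fixBasis centHom centHom_surjective
    centHom_eq_one_iff (fun h hh hf => faithful (h := ⟨h, hh⟩) hf) pCore_wreath hc hcs
  exact ⟨_, Qb, hQn, hset, hiso⟩

end CfsgLib.MonsterType.FiveCentral
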